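import Groth.Prelude.Def_BigSite
import Mathlib

/-!
# Almost cocontinuous functors: sheafification commutes with restriction
-/

universe u

open CategoryTheory Limits Opposite

namespace Groth.Agent.AlmostCocont8

variable {C D : Type u} [SmallCategory C] [SmallCategory D]
  {J : GrothendieckTopology C} {K : GrothendieckTopology D} {u : C ⥤ D}

/-- Values on sheaf theoretically empty objects are singletons. -/
def SingletonOnEmpty (K : GrothendieckTopology D) (G : Dᵒᵖ ⥤ Type u) : Prop :=
  ∀ V : D, (⊥ : Sieve V) ∈ K V → Nonempty (G.obj (op V)) ∧ Subsingleton (G.obj (op V))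

theorem singletonOnEmpty_sheaf (F : Sheaf K (Type u)) : SingletonOnEmpty K F.obj := by
  intro V hV
  have hs := (isSheaf_iff_isSheaf_of_type K F.obj).1 F.property _ hV
  refine ⟨⟨hs.amalgamate (fun _ f hf => False.elim hf) (fun _ _ _ _ _ _ _ hf => False.elim hf)⟩, ⟨fun a b => ?_⟩⟩
  exact hs.isSeparatedFor.ext fun Y f hf => False.elim hf

variable (hu : BigSite.IsAlmostCocontinuous u J K)

include hu in
theorem locallySurjective {G H : Dᵒᵖ ⥤ Type u} (η : G ⟶ H) [Presheaf.IsLocallySurjective K η]
    (hG : SingletonOnEmpty K G) (hH : SingletonOnEmpty K H) :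
    Presheaf.IsLocallySurjective J (Functor.whiskerLeft u.op η) := by
  refine ⟨fun {U} s => ?_⟩
  obtain ⟨R', hR', hR⟩ := hu U _ (Presheaf.imageSieve_mem K η (U := op (u.obj U)) s)
  refine J.superset_covering (fun V g hg => ?_) hR'
  rcases hR g hg with h | h
  · obtain ⟨⟨t⟩, -⟩ := hG _ h
    exact ⟨t, (hH _ h).2.elim _ _⟩
  · exact h

include hu in
theorem locallyInjective {G H : Dᵒᵖ ⥤ Type u} (η : G ⟶ H) [Presheaf.IsLocallyInjective K η]
    (hG : SingletonOnEmpty K G) :
    Presheaf.IsLocallyInjective J (Functor.whiskerLeft u.op η) := by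
  refine ⟨fun {U} a b hab => ?_⟩
  obtain ⟨R', hR', hR⟩ := hu U.unop _ (Presheaf.equalizerSieve_mem K η (X := op (u.obj U.unop)) a b hab)
  refine J.superset_covering (fun V g hg => ?_) hR'
  rcases hR g hg with h | h
  · exact (hG _ h).2.elim _ _
  · exact h

variable [u.IsContinuous J K]

include hu in
theorem W_whisker_toSheafify (G : Dᵒᵖ ⥤ Type u) (hG : SingletonOnEmpty K G) :
    J.W (Functor.whiskerLeft u.op (toSheafify K G)) := by
  haveI := locallyInjective hu (toSheafify K G) hG
  haveI := locallySurjective hu (toSheafify K G) hG (singletonOnEmpty_sheaf ((presheafToSheaf K (Type u)).obj G))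
  exact J.W_of_isLocallyBijective _

/-- The comparison `(u^p G)^# ⟶ u^p (G^#)`. -/
noncomputable def comparison (G : Dᵒᵖ ⥤ Type u) :
    (presheafToSheaf J (Type u)).obj (u.op ⋙ G) ⟶
      (u.sheafPushforwardContinuous (Type u) J K).obj ((presheafToSheaf K (Type u)).obj G) :=
  ((sheafificationAdjunction J (Type u)).homEquiv (u.op ⋙ G)
    ((u.sheafPushforwardContinuous (Type u) J K).obj ((presheafToSheaf K (Type u)).obj G))).symm
      (Functor.whiskerLeft u.op (toSheafify K G))

theorem toSheafify_comparison (G : Dᵒᵖ ⥤ Type u) :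
    toSheafify J (u.op ⋙ G) ≫ (comparison (J := J) (K := K) G).hom =
      Functor.whiskerLeft u.op (toSheafify K G) :=
  ((sheafificationAdjunction J (Type u)).homEquiv_unit (u.op ⋙ G) _ _).symm.trans
    (Equiv.apply_symm_apply _ _)

omit [u.IsContinuous J K] in
theorem isIso_homEquiv_symm {P : Cᵒᵖ ⥤ Type u} {F : Sheaf J (Type u)} (g : P ⟶ (sheafToPresheaf J (Type u)).obj F)
    (hg : J.W g) : IsIso (((sheafificationAdjunction J (Type u)).homEquiv P F).symm g) := by
  rw [Adjunction.homEquiv_counit]
  haveI := (J.W_iff g).1 hg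
  infer_instance

include hu in
theorem isIso_comparison (G : Dᵒᵖ ⥤ Type u) (hG : SingletonOnEmpty K G) :
    IsIso (comparison (J := J) (K := K) (u := u) G) := by
  exact isIso_homEquiv_symm (P := u.op ⋙ G)
    (F := (u.sheafPushforwardContinuous (Type u) J K).obj ((presheafToSheaf K (Type u)).obj G))
    (Functor.whiskerLeft u.op (toSheafify K G)) (W_whisker_toSheafify hu G hG)

variable {I : Type} [SmallCategory I] [IsConnected I]

theorem singletonOnEmpty_colimit (F : I ⥤ Dᵒᵖ ⥤ Type u) (hF : ∀ i, SingletonOnEmpty K (F.obj i))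
    (c : Cocone F) (hc : IsColimit c) : SingletonOnEmpty K c.pt := by
  intro V hV
  let hc' := isColimitOfPreserves ((evaluation _ _).obj (op V)) hc
  refine ⟨⟨(c.ι.app (Classical.arbitrary I)).app (op V) (Classical.choice (hF _ V hV).1)⟩, ⟨fun a b => ?_⟩⟩
  obtain ⟨i, x, rfl⟩ := Types.jointly_surjective_of_isColimit hc' a
  obtain ⟨j, y, rfl⟩ := Types.jointly_surjective_of_isColimit hc' b
  let pick : I → c.pt.obj (op V) := fun k => (c.ι.app k).app (op V) (Classical.choice (hF k V hV).1)
  have h : ∀ k z, (c.ι.app k).app (op V) z = pick k := fun k z =>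
    congrArg _ ((hF k V hV).2.elim _ _)
  refine (h i x).trans ((constant_of_preserves_morphisms pick (fun k l φ => ?_) i j).trans (h j y).symm)
  rw [← h l ((F.map φ).app (op V) (Classical.choice (hF k V hV).1))]
  exact (ConcreteCategory.congr_hom (congrArg (fun t => t.app (op V)) (c.w φ)) _).symm

include hu in
theorem preservesColimitsOfShape :
    PreservesColimitsOfShape I (u.sheafPushforwardContinuous (Type u) J K) := by
  refine ⟨fun {F} => ?_⟩
  let E := colimit.cocone (F ⋙ sheafToPresheaf K (Type u))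
  have hG : SingletonOnEmpty K E.pt :=
    singletonOnEmpty_colimit _ (fun i => singletonOnEmpty_sheaf (F.obj i)) E (colimit.isColimit _)
  let W := (Functor.whiskeringLeft Cᵒᵖ Dᵒᵖ (Type u)).obj u.op
  let E' : Cocone ((F ⋙ u.sheafPushforwardContinuous (Type u) J K) ⋙ sheafToPresheaf J (Type u)) :=
    { pt := u.op ⋙ E.pt
      ι := { app := fun i => Functor.whiskerLeft u.op (E.ι.app i)
             naturality := fun i j φ => (W.mapCocone E).ι.naturality φ } }
  have hE' : IsColimit E' := isColimitOfPreserves W (colimit.isColimit (F ⋙ sheafToPresheaf K (Type u)))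
  have hiso := isIso_comparison (J := J) hu E.pt hG
  refine preservesColimit_of_preserves_colimit_cocone (Sheaf.isColimitSheafifyCocone E (colimit.isColimit _))
    ((Sheaf.isColimitSheafifyCocone E' hE').ofIsoColimit ?_)
  let e := @asIso _ _ _ _ (comparison (J := J) (K := K) (u := u) E.pt) hiso
  refine Cocone.ext e fun i => ?_
  apply Sheaf.hom_ext
  change ((Sheaf.sheafifyCocone E').ι.app i).hom ≫ (comparison (J := J) (K := K) (u := u) E.pt).hom =
    Functor.whiskerLeft u.op ((Sheaf.sheafifyCocone E).ι.app i).hom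
  rw [Sheaf.sheafifyCocone_ι_app_val, Sheaf.sheafifyCocone_ι_app_val]
  exact (Category.assoc _ _ _).trans ((congrArg (fun t => Functor.whiskerLeft u.op (E.ι.app i) ≫ t)
    (toSheafify_comparison (J := J) E.pt)).trans (Functor.whiskerLeft_comp _ _ _).symm)

end Groth.Agent.AlmostCocont8
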